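import Groth.Prelude.Def_GrSyz
import Mathlib.RingTheory.MvPolynomial.Basic
import Mathlib.Algebra.Order.Antidiag.FinsuppEquiv
import Mathlib.LinearAlgebra.FiniteDimensional.Lemmas
import Mathlib.LinearAlgebra.Matrix.ToLinearEquiv
import Mathlib.LinearAlgebra.Dimension.Constructions
import Mathlib.Tactic

/-! Graded pieces of free resolutions over a standard graded polynomial ring. -/

namespace Groth.Agent.GrSyzHilb

open MvPolynomial DirectSum



section
universe u
variable {k : Type u} [Field k] {r : ℕ}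


theorem weight_eq (d : Fin (r + 1) →₀ ℕ) :
    Finsupp.weight (fun _ : Fin (r + 1) => (1 : ℤ)) d = ((∑ i, d i : ℕ) : ℤ) := by
  rw [Finsupp.weight_apply, Finsupp.sum_fintype _ _ (fun i => by simp)]
  simp

theorem piece_neg {n : ℤ} (hn : n < 0) : (GrSyz.stdGr k (Fin (r + 1))) n = ⊥ := by
  rw [eq_bot_iff]
  intro p hp
  rw [Submodule.mem_bot]
  ext d
  rw [coeff_zero]
  by_contra h
  have := hp h
  rw [weight_eq] at this
  omega

theorem coeff_zero_of_pos {n : ℤ} (hn : 0 < n) {p : (MvPolynomial (Fin (r + 1)) k)} (hp : p ∈ (GrSyz.stdGr k (Fin (r + 1))) n) : coeff 0 p = 0 := by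
  by_contra h
  have := hp h
  rw [map_zero] at this
  omega

theorem irrel_le : ∀ p ∈ (GrSyz.irrel (GrSyz.stdGr k (Fin (r + 1)))).toIdeal, constantCoeff p = 0 := by
  intro p hp
  have : (GrSyz.irrel (GrSyz.stdGr k (Fin (r + 1)))).toIdeal ≤ RingHom.ker (constantCoeff : (MvPolynomial (Fin (r + 1)) k) →+* k) := by
    show Ideal.span _ ≤ _
    rw [Ideal.span_le]
    rintro x ⟨n, hn, hx⟩
    exact coeff_zero_of_pos hn hx
  exact this hp

theorem piece_zero {p : (MvPolynomial (Fin (r + 1)) k)} (hp : p ∈ (GrSyz.stdGr k (Fin (r + 1))) 0) (h0 : constantCoeff p = 0) : p = 0 := by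
  ext d
  rw [coeff_zero]
  by_contra h
  have := hp h
  rw [weight_eq] at this
  have hd : d = 0 := by
    ext i
    have : ∑ j, d j = 0 := by exact_mod_cast this
    simpa using (Finset.sum_eq_zero_iff.1 this) i (Finset.mem_univ _)
  subst hd
  exact h h0

/-- Minimality: a nonzero entry has positive degree. -/
theorem pos_of_mem_irrel {n : ℤ} {p : (MvPolynomial (Fin (r + 1)) k)} (hp : p ∈ (GrSyz.stdGr k (Fin (r + 1))) n) (hm : p ∈ (GrSyz.irrel (GrSyz.stdGr k (Fin (r + 1)))).toIdeal)
    (h0 : p ≠ 0) : 0 < n := by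
  rcases lt_trichotomy n 0 with h | h | h
  · rw [piece_neg h] at hp; exact absurd ((Submodule.mem_bot k).1 hp) h0
  · subst h; exact absurd (piece_zero hp (irrel_le p hm)) h0
  · exact h

noncomputable instance finite_piece (n : ℤ) : Module.Finite k ((GrSyz.stdGr k (Fin (r + 1))) n) := by
  by_cases hn : n < 0
  · rw [piece_neg hn]; infer_instance
  have hfin : Set.Finite {d : Fin (r + 1) →₀ ℕ | Finsupp.weight (fun _ => (1 : ℤ)) d = n} := by
    refine Set.Finite.subset (Finset.finite_toSet ((Finset.univ).finsuppAntidiag n.toNat)) fun d hd => ?_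
    rw [Set.mem_ofPred_eq, weight_eq] at hd
    simp only [Finset.mem_coe, Finset.mem_finsuppAntidiag, Finset.subset_univ, and_true]
    show ∑ i, d i = n.toNat
    omega
  have := hfin.to_subtype
  rw [show (GrSyz.stdGr k (Fin (r + 1))) n = restrictSupport k {d | Finsupp.weight (fun _ : Fin (r + 1) => (1 : ℤ)) d = n} from
    MvPolynomial.weightedHomogeneousSubmodule_eq_finsupp_supported k _ n]
  exact Module.Finite.of_basis (basisRestrictSupport k _)

theorem finrank_piece (n : ℤ) : Module.finrank k ((GrSyz.stdGr k (Fin (r + 1))) n) =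
    if 0 ≤ n then Nat.choose (r + n.toNat) r else 0 := by
  by_cases hn : 0 ≤ n
  swap
  · rw [if_neg hn, piece_neg (by omega), finrank_bot]
  rw [if_pos hn]
  have hset : {d : Fin (r + 1) →₀ ℕ | Finsupp.weight (fun _ => (1 : ℤ)) d = n} =
      ↑((Finset.univ : Finset (Fin (r + 1))).finsuppAntidiag n.toNat) := by
    ext d
    rw [Set.mem_ofPred_eq, weight_eq]
    simp only [Finset.mem_coe, Finset.mem_finsuppAntidiag, Finset.subset_univ, and_true]
    show _ ↔ ∑ i, d i = n.toNat
    omega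
  rw [show (GrSyz.stdGr k (Fin (r + 1))) n = restrictSupport k {d | Finsupp.weight (fun _ : Fin (r + 1) => (1 : ℤ)) d = n} from
    MvPolynomial.weightedHomogeneousSubmodule_eq_finsupp_supported k _ n, hset,
    Module.finrank_eq_nat_card_basis (basisRestrictSupport k _), Nat.card_coe_set_eq,
    Set.ncard_coe_finset, Finset.card_finsuppAntidiag_nat_eq_choose, Finset.card_univ,
    Fintype.card_fin, show r + 1 + n.toNat - 1 = r + n.toNat by omega]
  rw [← Nat.choose_symm (by omega : n.toNat ≤ r + n.toNat), Nat.add_sub_cancel]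

variable {M : Type u} [AddCommGroup M] [Module k M] [Module (MvPolynomial (Fin (r + 1)) k) M]
  {ℳ : ℤ → Submodule k M} [DirectSum.Decomposition ℳ] [SetLike.GradedSMul (GrSyz.stdGr k (Fin (r + 1))) ℳ]

/-- The component of `s • m` for homogeneous `m`. -/
theorem proj_smul (s : (MvPolynomial (Fin (r + 1)) k)) {e : ℤ} {m : M} (hm : m ∈ ℳ e) (d : ℤ) :
    (decompose ℳ (s • m) d : M) = (decompose (GrSyz.stdGr k (Fin (r + 1))) s (d - e) : (MvPolynomial (Fin (r + 1)) k)) • m := by
  induction s using DirectSum.Decomposition.inductionOn (GrSyz.stdGr k (Fin (r + 1))) with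
  | zero => simp
  | add a b ha hb =>
    rw [add_smul, decompose_add, DirectSum.add_apply, Submodule.coe_add, ha, hb, decompose_add,
      DirectSum.add_apply, Submodule.coe_add, add_smul]
  | @homogeneous j a =>
    have hmem : (a : (MvPolynomial (Fin (r + 1)) k)) • m ∈ ℳ (j + e) := SetLike.GradedSMul.smul_mem a.2 hm
    by_cases h : d = j + e
    · subst h
      rw [decompose_of_mem_same ℳ hmem, show j + e - e = j by ring, decompose_of_mem_same (GrSyz.stdGr k (Fin (r + 1))) a.2]
    · rw [decompose_of_mem_ne ℳ hmem (Ne.symm h), decompose_of_mem_ne (GrSyz.stdGr k (Fin (r + 1))) a.2 (by omega), zero_smul]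

/-- The component of a product with a homogeneous factor. -/
theorem proj_mul (s : (MvPolynomial (Fin (r + 1)) k)) {e : ℤ} {q : (MvPolynomial (Fin (r + 1)) k)} (hq : q ∈ (GrSyz.stdGr k (Fin (r + 1))) e) (d : ℤ) :
    (decompose (GrSyz.stdGr k (Fin (r + 1))) (q * s) d : (MvPolynomial (Fin (r + 1)) k)) = q * (decompose (GrSyz.stdGr k (Fin (r + 1))) s (d - e) : (MvPolynomial (Fin (r + 1)) k)) := by
  induction s using DirectSum.Decomposition.inductionOn (GrSyz.stdGr k (Fin (r + 1))) with
  | zero => simp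
  | add a b ha hb =>
    rw [mul_add, decompose_add, DirectSum.add_apply, Submodule.coe_add, ha, hb, decompose_add,
      DirectSum.add_apply, Submodule.coe_add, mul_add]
  | @homogeneous j a =>
    have hmem : q * (a : (MvPolynomial (Fin (r + 1)) k)) ∈ (GrSyz.stdGr k (Fin (r + 1))) (e + j) := SetLike.GradedMul.mul_mem hq a.2
    by_cases h : d = e + j
    · subst h
      rw [decompose_of_mem_same (GrSyz.stdGr k (Fin (r + 1))) hmem, show e + j - e = j by ring, decompose_of_mem_same (GrSyz.stdGr k (Fin (r + 1))) a.2]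
    · rw [decompose_of_mem_ne (GrSyz.stdGr k (Fin (r + 1))) hmem (Ne.symm h), decompose_of_mem_ne (GrSyz.stdGr k (Fin (r + 1))) a.2 (by omega), mul_zero]

variable (F : GrSyz.FreeRes (GrSyz.stdGr k (Fin (r + 1))) ℳ) (d : ℤ)

/-- The piece of degree `d` of the `i`th term. -/
noncomputable def Pc (i : ℕ) : Submodule k (Fin (F.rk i) → (MvPolynomial (Fin (r + 1)) k)) :=
  Submodule.pi Set.univ fun b => (GrSyz.stdGr k (Fin (r + 1))) (d - F.deg i b)

theorem mem_Pc {i : ℕ} {v : Fin (F.rk i) → (MvPolynomial (Fin (r + 1)) k)} :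
    v ∈ Pc F d i ↔ ∀ b, v b ∈ (GrSyz.stdGr k (Fin (r + 1))) (d - F.deg i b) := by
  simp [Pc, Submodule.mem_pi]

/-- The equivalence with the product of the pieces. -/
noncomputable def pcEquiv (i : ℕ) : Pc F d i ≃ₗ[k] ∀ b, (GrSyz.stdGr k (Fin (r + 1))) (d - F.deg i b) where
  toFun v b := ⟨v.1 b, (mem_Pc F d).1 v.2 b⟩
  invFun w := ⟨fun b => (w b).1, (mem_Pc F d).2 fun b => (w b).2⟩
  map_add' _ _ := rfl
  map_smul' _ _ := rfl
  left_inv _ := rfl
  right_inv _ := rfl

noncomputable instance finite_Pc (i : ℕ) : Module.Finite k (Pc F d i) :=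
  Module.Finite.equiv (pcEquiv F d i).symm

theorem finrank_Pc (i : ℕ) : (Module.finrank k (Pc F d i) : ℤ) =
    ∑ b : Fin (F.rk i),
      (if F.deg i b ≤ d then ((Nat.choose (r + (d - F.deg i b).toNat) r : ℕ) : ℤ) else 0) := by
  rw [(pcEquiv F d i).finrank_eq, Module.finrank_pi_fintype, Nat.cast_sum]
  refine Finset.sum_congr rfl fun b _ => ?_
  rw [finrank_piece]
  by_cases h : F.deg i b ≤ d
  · rw [if_pos h, if_pos (by omega)]
  · rw [if_neg h, if_neg (by omega), Nat.cast_zero]

/-- Components of a vector. -/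
noncomputable def comp (i : ℕ) (v : Fin (F.rk i) → (MvPolynomial (Fin (r + 1)) k)) : Fin (F.rk i) → (MvPolynomial (Fin (r + 1)) k) :=
  fun b => (decompose (GrSyz.stdGr k (Fin (r + 1))) (v b) (d - F.deg i b) : (MvPolynomial (Fin (r + 1)) k))

theorem comp_mem (i : ℕ) (v : Fin (F.rk i) → (MvPolynomial (Fin (r + 1)) k)) : comp F d i v ∈ Pc F d i :=
  (mem_Pc F d).2 fun _ => Submodule.coe_mem _

theorem comp_of_mem {i : ℕ} {v : Fin (F.rk i) → (MvPolynomial (Fin (r + 1)) k)} (hv : v ∈ Pc F d i) : comp F d i v = v :=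
  funext fun b => decompose_of_mem_same (GrSyz.stdGr k (Fin (r + 1))) ((mem_Pc F d).1 hv b)

theorem comp_d (i : ℕ) (v : Fin (F.rk (i + 1)) → (MvPolynomial (Fin (r + 1)) k)) :
    comp F d i (F.dLin i v) = F.dLin i (comp F d (i + 1) v) := by
  funext a
  simp only [comp, GrSyz.FreeRes.dLin, Matrix.mulVecLin_apply, Matrix.mulVec, dotProduct]
  rw [DirectSum.decompose_sum (ℳ := GrSyz.stdGr k (Fin (r + 1))), DFinsupp.finsetSum_apply, AddSubmonoidClass.coe_finsetSum]
  refine Finset.sum_congr rfl fun b _ => ?_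
  rw [proj_mul _ (F.d_mem i a b)]
  rw [show d - F.deg i a - (F.deg (i + 1) b - F.deg i a) = d - F.deg (i + 1) b by omega]

theorem comp_aug (v : Fin (F.rk 0) → (MvPolynomial (Fin (r + 1)) k)) :
    (decompose ℳ (F.augLin v) d : M) = F.augLin (comp F d 0 v) := by
  simp only [comp, GrSyz.FreeRes.augLin, Fintype.linearCombination_apply]
  rw [DirectSum.decompose_sum (ℳ := ℳ), DFinsupp.finsetSum_apply, AddSubmonoidClass.coe_finsetSum]
  exact Finset.sum_congr rfl fun b _ => proj_smul _ (F.aug_mem b) d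

variable [IsScalarTower k (MvPolynomial (Fin (r + 1)) k) M]

/-- The augmentation in degree `d`. -/
noncomputable def augD : Pc F d 0 →ₗ[k] ℳ d :=
  LinearMap.codRestrict (ℳ d) ((F.augLin.restrictScalars k).comp (Pc F d 0).subtype) fun v => by
    show F.augLin (v : Fin (F.rk 0) → (MvPolynomial (Fin (r + 1)) k)) ∈ ℳ d
    rw [← comp_of_mem F d v.2, ← comp_aug]
    exact Submodule.coe_mem _

/-- The differential in degree `d`. -/
noncomputable def dD (i : ℕ) : Pc F d (i + 1) →ₗ[k] Pc F d i :=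
  LinearMap.codRestrict (Pc F d i) (((F.dLin i).restrictScalars k).comp (Pc F d (i + 1)).subtype)
    fun v => by
      show F.dLin i (v : Fin (F.rk (i + 1)) → (MvPolynomial (Fin (r + 1)) k)) ∈ Pc F d i
      rw [← comp_of_mem F d v.2, ← comp_d]
      exact comp_mem F d i _

theorem augD_surjective : Function.Surjective (augD F d) := by
  rintro ⟨x, hx⟩
  obtain ⟨v, rfl⟩ := F.aug_surjective x
  refine ⟨⟨comp F d 0 v, comp_mem F d 0 v⟩, Subtype.ext ?_⟩
  show F.augLin (comp F d 0 v) = _
  rw [← comp_aug, decompose_of_mem_same ℳ hx]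

include F in
theorem finite_piece_module : Module.Finite k (ℳ d) :=
  Module.Finite.of_surjective (augD F d) (augD_surjective F d)

theorem range_zero : LinearMap.range (dD F d 0) = LinearMap.ker (augD F d) := by
  ext v
  rw [LinearMap.mem_ker, LinearMap.mem_range]
  constructor
  · rintro ⟨w, rfl⟩
    refine Subtype.ext ?_
    show F.augLin (F.dLin 0 (w : Fin (F.rk 1) → (MvPolynomial (Fin (r + 1)) k))) = 0
    exact LinearMap.mem_ker.1 (F.exact_zero ▸ LinearMap.mem_range_self _ _)
  · intro hv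
    have : (v : Fin (F.rk 0) → (MvPolynomial (Fin (r + 1)) k)) ∈ LinearMap.ker F.augLin := congrArg Subtype.val hv
    rw [GrSyz.FreeRes.augLin, F.exact_zero] at this
    obtain ⟨w, hw⟩ := this
    refine ⟨⟨comp F d 1 w, comp_mem F d 1 w⟩, Subtype.ext ?_⟩
    show F.dLin 0 (comp F d (0 + 1) w) = _
    rw [← comp_d, GrSyz.FreeRes.dLin, hw, comp_of_mem F d v.2]

theorem range_succ (i : ℕ) : LinearMap.range (dD F d (i + 1)) = LinearMap.ker (dD F d i) := by
  ext v
  rw [LinearMap.mem_ker, LinearMap.mem_range]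
  constructor
  · rintro ⟨w, rfl⟩
    refine Subtype.ext ?_
    show F.dLin i (F.dLin (i + 1) (w : Fin (F.rk (i + 1 + 1)) → (MvPolynomial (Fin (r + 1)) k))) = 0
    exact LinearMap.mem_ker.1 (F.exact_succ i ▸ LinearMap.mem_range_self _ _)
  · intro hv
    have : (v : Fin (F.rk (i + 1)) → (MvPolynomial (Fin (r + 1)) k)) ∈ LinearMap.ker (F.dLin i) := congrArg Subtype.val hv
    rw [GrSyz.FreeRes.dLin, F.exact_succ i] at this
    obtain ⟨w, hw⟩ := this
    refine ⟨⟨comp F d (i + 2) w, comp_mem F d (i + 2) w⟩, Subtype.ext ?_⟩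
    show F.dLin (i + 1) (comp F d (i + 1 + 1) w) = _
    rw [← comp_d, GrSyz.FreeRes.dLin, hw, comp_of_mem F d v.2]

/-- The Hilbert function from a finite resolution. -/
theorem hilbert {m : ℕ} (hF : F.HasLengthLE m) :
    (Module.finrank k (ℳ d) : ℤ) =
      ∑ i ∈ Finset.range (m + 1), (-1 : ℤ) ^ i * ∑ b : Fin (F.rk i),
        (if F.deg i b ≤ d then ((Nat.choose (r + (d - F.deg i b).toNat) r : ℕ) : ℤ) else 0) := by
  simp only [← finrank_Pc]
  let R : ℕ → ℤ := fun i => (Module.finrank k (LinearMap.range (dD F d i)) : ℤ)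
  have h0 : (Module.finrank k (Pc F d 0) : ℤ) = Module.finrank k (ℳ d) + R 0 := by
    have h := (augD F d).finrank_range_add_finrank_ker
    rw [LinearMap.range_eq_top.2 (augD_surjective F d), finrank_top, ← range_zero] at h
    simp only [R, ← h, Nat.cast_add]
  have hs : ∀ i, (Module.finrank k (Pc F d (i + 1)) : ℤ) = R i + R (i + 1) := by
    intro i
    have h := (dD F d i).finrank_range_add_finrank_ker
    rw [← range_succ] at h
    simp only [R, ← h, Nat.cast_add]
  have key : ∀ j, ∑ i ∈ Finset.range (j + 1), (-1 : ℤ) ^ i * (Module.finrank k (Pc F d i) : ℤ) =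
      Module.finrank k (ℳ d) + (-1) ^ j * R j := by
    intro j
    induction j with
    | zero => simp [h0]
    | succ j ih => rw [Finset.sum_range_succ, ih, hs]; ring
  rw [key m]
  have : R m = 0 := by
    have hr : F.rk (m + 1) = 0 := hF (m + 1) (Nat.lt_succ_self m)
    have : IsEmpty (Fin (F.rk (m + 1))) := by rw [hr]; infer_instance
    have : Subsingleton (Pc F d (m + 1)) := ⟨fun a b => Subtype.ext (funext fun x => isEmptyElim x)⟩
    simp only [R]
    rw [LinearMap.range_eq_bot.2 (Subsingleton.elim _ _), finrank_bot, Nat.cast_zero]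
  rw [this, mul_zero, add_zero]

/-- In a minimal resolution no differential has a zero column. -/
theorem column_ne_zero (hF : F.IsMinimal (GrSyz.irrel (GrSyz.stdGr k (Fin (r + 1)))).toIdeal) (i : ℕ) (b : Fin (F.rk (i + 1))) :
    ∃ a, F.d i a b ≠ 0 := by
  by_contra h
  push Not at h
  have hker : (Pi.single b 1 : Fin (F.rk (i + 1)) → (MvPolynomial (Fin (r + 1)) k)) ∈ LinearMap.ker (Matrix.mulVecLin (F.d i)) := by
    rw [LinearMap.mem_ker, Matrix.mulVecLin_apply]
    funext a
    simp [Matrix.mulVec, dotProduct, Pi.single_apply, h a]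
  rw [F.exact_succ i] at hker
  obtain ⟨w, hw⟩ := hker
  have h1 : (1 : (MvPolynomial (Fin (r + 1)) k)) ∈ (GrSyz.irrel (GrSyz.stdGr k (Fin (r + 1)))).toIdeal := by
    have : Matrix.mulVecLin (F.d (i + 1)) w b = 1 := by rw [hw, Pi.single_eq_same]
    rw [← this, Matrix.mulVecLin_apply, Matrix.mulVec, dotProduct]
    exact Ideal.sum_mem _ fun x _ => Ideal.mul_mem_right _ _ (hF (i + 1) b x)
  simpa using irrel_le 1 h1

theorem deg_lt (hF : F.IsMinimal (GrSyz.irrel (GrSyz.stdGr k (Fin (r + 1)))).toIdeal) {i : ℕ} {a : Fin (F.rk i)}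
    {b : Fin (F.rk (i + 1))} (h : F.d i a b ≠ 0) : F.deg i a < F.deg (i + 1) b := by
  have := pos_of_mem_irrel (F.d_mem i a b) (hF i a b) h
  omega

theorem eq_zero_of_le (hF : F.IsMinimal (GrSyz.irrel (GrSyz.stdGr k (Fin (r + 1)))).toIdeal) {i : ℕ} {a : Fin (F.rk i)}
    {b : Fin (F.rk (i + 1))} (h : F.deg (i + 1) b ≤ F.deg i a) : F.d i a b = 0 := by
  by_contra hne
  have := deg_lt F hF hne
  omega

end

end Groth.Agent.GrSyzHilb
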